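import Mathlib.Algebra.Category.ModuleCat.Colimits
import Mathlib.Algebra.Category.ModuleCat.FilteredColimits
import Mathlib.RingTheory.Finiteness.Basic
import Mathlib.Algebra.Module.FinitePresentation
import Mathlib.CategoryTheory.Filtered.Basic
import Mathlib.CategoryTheory.Limits.Yoneda
import Mathlib.LinearAlgebra.Isomorphisms
import Mathlib.CategoryTheory.Limits.Types.Colimits
import Mathlib.CategoryTheory.Limits.Types.Filtered

set_option autoImplicit false
universe u
open CategoryTheory Limits

namespace Groth.Agent.FPChar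

variable {R : Type u} [CommRing R] {M : Type u} [AddCommGroup M] [Module R M] (K : Submodule R M)

abbrev Sub := {W : Submodule R M // W.FG ∧ W ≤ K}

instance : Nonempty (Sub K) := ⟨⟨⊥, Submodule.fg_bot, bot_le⟩⟩
instance : IsDirected (Sub K) (· ≤ ·) :=
  ⟨fun a b => ⟨⟨a.1 ⊔ b.1, a.2.1.sup b.2.1, sup_le a.2.2 b.2.2⟩, le_sup_left (a := a.1), le_sup_right (b := b.1)⟩⟩

noncomputable def diag : Sub K ⥤ ModuleCat.{u} R where
  obj W := ModuleCat.of R (M ⧸ W.1)
  map {V W} h := ModuleCat.ofHom (Submodule.factor (leOfHom h))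
  map_id W := by ext : 1; exact Submodule.linearMap_qext _ (LinearMap.ext fun x => rfl)
  map_comp f g := by ext : 1; exact Submodule.linearMap_qext _ (LinearMap.ext fun x => rfl)

lemma ι_mk {V W : Sub K} (h : V ≤ W) (x : M) :
    colimit.ι (diag K) V (Submodule.Quotient.mk x) = colimit.ι (diag K) W (Submodule.Quotient.mk x) := by
  rw [← colimit.w (diag K) (homOfLE h)]
  rfl

lemma ι_mk_eq_zero (V : Sub K) (x : M) (hx : x ∈ K) : colimit.ι (diag K) V (Submodule.Quotient.mk x) = 0 := by
  let W : Sub K := ⟨V.1 ⊔ Submodule.span R {x}, V.2.1.sup (Submodule.fg_span_singleton x),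
    sup_le V.2.2 (by simpa using hx)⟩
  rw [ι_mk K (W := W) (le_sup_left (a := V.1))]
  have : (Submodule.Quotient.mk x : M ⧸ W.1) = 0 := (Submodule.Quotient.mk_eq_zero _).mpr
    (Submodule.mem_sup_right (Submodule.mem_span_singleton_self x))
  exact (congrArg _ this).trans (map_zero _)

variable (N : ModuleCat.{u} R)

lemma post_ι {J : Type u} [SmallCategory J] (F : J ⥤ ModuleCat.{u} R) (j : J) (φ : N ⟶ F.obj j) :
    colimit.post F (coyoneda.obj (Opposite.op N))
      (colimit.ι (F ⋙ coyoneda.obj (Opposite.op N)) j φ) = φ ≫ colimit.ι F j :=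
  ConcreteCategory.congr_hom (colimit.ι_post F (coyoneda.obj (Opposite.op N)) j) φ

theorem finite_of_injective (N : Type u) [AddCommGroup N] [Module R N]
    (h : ∀ (J : Type u) [SmallCategory J] [IsFiltered J] (F : J ⥤ ModuleCat.{u} R),
      Function.Injective (colimit.post F (coyoneda.obj (Opposite.op (ModuleCat.of R N))))) :
    Module.Finite R N := by
  let F := diag (⊤ : Submodule R N)
  let b : Sub (⊤ : Submodule R N) := ⟨⊥, Submodule.fg_bot, le_top⟩
  let φ : ModuleCat.of R N ⟶ F.obj b := ModuleCat.ofHom (Submodule.mkQ b.1)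
  let C := F ⋙ coyoneda.obj (Opposite.op (ModuleCat.of R N))
  have e : colimit.ι C b φ = colimit.ι C b (0 : ModuleCat.of R N ⟶ F.obj b) := by
    apply h _ F
    rw [post_ι, post_ι]
    have : φ ≫ colimit.ι F b = (0 : ModuleCat.of R N ⟶ F.obj b) ≫ colimit.ι F b := by
      rw [zero_comp]
      ext x
      exact ι_mk_eq_zero ⊤ b x trivial
    exact this
  obtain ⟨W, f, g, hfg⟩ := (Types.FilteredColimit.colimit_eq_iff C).mp e
  have htop : W.1 = ⊤ := by
    rw [eq_top_iff]
    intro x _
    have := congrArg (fun (ψ : ModuleCat.of R N ⟶ F.obj W) => ψ x) hfg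
    have h2 : (Submodule.Quotient.mk x : N ⧸ W.1) = 0 :=
      this.trans (map_zero (F.map g).hom)
    exact (Submodule.Quotient.mk_eq_zero _).mp h2
  exact ⟨htop ▸ W.2.1⟩

theorem finitePresentation_of_bijective (N : Type u) [AddCommGroup N] [Module R N]
    (h : ∀ (J : Type u) [SmallCategory J] [IsFiltered J] (F : J ⥤ ModuleCat.{u} R),
      Function.Bijective (colimit.post F (coyoneda.obj (Opposite.op (ModuleCat.of R N))))) :
    Module.FinitePresentation R N := by
  haveI := finite_of_injective N fun J _ _ F => (h J F).1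
  obtain ⟨n, π, hπ⟩ := Module.Finite.exists_fin' R N
  let K := LinearMap.ker π
  let F := diag K
  let b : Sub K := ⟨⊥, Submodule.fg_bot, bot_le⟩
  let t₀ : (Fin n → R) →ₗ[R] (colimit F : ModuleCat.{u} R) := (colimit.ι F b).hom.comp (Submodule.mkQ b.1)
  let t : N →ₗ[R] (colimit F : ModuleCat.{u} R) :=
    (K.liftQ t₀ fun x hx => ι_mk_eq_zero K b x hx).comp (π.quotKerEquivOfSurjective hπ).symm.toLinearMap
  obtain ⟨z, hz⟩ := (h _ F).2 (ModuleCat.ofHom t)
  obtain ⟨W, φ, rfl⟩ := Types.jointly_surjective' (F := F ⋙ coyoneda.obj (Opposite.op (ModuleCat.of R N))) z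
  rw [post_ι] at hz
  let ψ : N →ₗ[R] (Fin n → R) ⧸ W.1 := (φ : ModuleCat.of R N ⟶ F.obj W).hom
  let c : Cocone F := ⟨ModuleCat.of R N, {
    app := fun V => ModuleCat.ofHom (V.1.liftQ π V.2.2)
    naturality := fun V V' g => by
      ext : 1; exact Submodule.linearMap_qext _ (LinearMap.ext fun x => rfl) }⟩
  let q : (Fin n → R) ⧸ W.1 →ₗ[R] N := W.1.liftQ π W.2.2
  have hq : q.comp ψ = LinearMap.id := by
    ext y
    obtain ⟨x, rfl⟩ := hπ y
    have h1 : q (ψ (π x)) = colimit.desc F c (t (π x)) := by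
      rw [← show colimit.ι F W (ψ (π x)) = t (π x) from ConcreteCategory.congr_hom hz (π x)]
      exact (ConcreteCategory.congr_hom (colimit.ι_desc c W) _).symm
    have h2 : t (π x) = colimit.ι F b (Submodule.Quotient.mk x) := by
      simp only [t, LinearMap.comp_apply, LinearEquiv.coe_coe]
      rw [show (π.quotKerEquivOfSurjective hπ).symm (π x) = Submodule.Quotient.mk x from by
        rw [LinearEquiv.symm_apply_eq]; rfl]
      rfl
    refine h1.trans ?_
    rw [h2]
    exact ConcreteCategory.congr_hom (colimit.ι_desc c b) _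
  haveI : Module.FinitePresentation R ((Fin n → R) ⧸ W.1) :=
    Module.finitePresentation_of_surjective (Submodule.mkQ W.1) (Submodule.mkQ_surjective _)
      (by rw [Submodule.ker_mkQ]; exact W.2.1)
  have hqs : Function.Surjective q := fun y => ⟨ψ y, LinearMap.congr_fun hq y⟩
  refine Module.finitePresentation_of_surjective q hqs ?_
  have hker : LinearMap.ker q = LinearMap.range (LinearMap.id - ψ.comp q) := by
    apply le_antisymm
    · intro x hx
      exact ⟨x, by simp [LinearMap.mem_ker.mp hx]⟩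
    · rintro _ ⟨x, rfl⟩
      have := LinearMap.congr_fun hq (q x)
      simp only [LinearMap.comp_apply, LinearMap.id_apply] at this
      simp [this]
  rw [hker, LinearMap.range_eq_map]
  exact Submodule.FG.map _ (Module.finite_def.mp inferInstance)

end Groth.Agent.FPChar
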